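import Groth.Prelude.Def_ProEtW
import Groth.Prelude.Def_EtBase
import Groth.Agent.IndEtLib.Retract
import Mathlib

/-!
Rings all of whose faithfully flat etale algebras have retractions have strictly henselian local rings at maximal
ideals.
-/

set_option autoImplicit false
set_option linter.style.haveILetI false

universe u

open Polynomial IsLocalRing

namespace Groth.Agent.EtRetr

variable {A : Type u} [CommRing A] (h : ProEtW.HasEtaleRetractions A) (m : Ideal A) [m.IsMaximal]

include h in
/-- a standard etale algebra with a point over `m` has a point in `A_m` -/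
theorem exists_hasMap (P : StandardEtalePair A) {K : Type u} [Field K] [Algebra A K]
    (hK : RingHom.ker (algebraMap A K) = m) (x : K) (hx : P.HasMap x) :
    ∃ r : Localization.AtPrime m, P.HasMap r := by
  let φ : P.Ring →ₐ[A] K := P.lift x hx
  haveI : (RingHom.ker φ.toRingHom).IsPrime := RingHom.ker_isPrime _
  let q : PrimeSpectrum P.Ring := ⟨RingHom.ker φ.toRingHom, inferInstance⟩
  let mp : PrimeSpectrum A := ⟨m, inferInstance⟩
  have hq : PrimeSpectrum.comap (algebraMap A P.Ring) q = mp := by
    apply PrimeSpectrum.ext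
    change Ideal.comap (algebraMap A P.Ring) (RingHom.ker φ.toRingHom) = m
    rw [RingHom.comap_ker, AlgHom.toRingHom_eq_coe, AlgHom.comp_algebraMap, hK]
  have ho : IsOpen (Set.range (PrimeSpectrum.comap (algebraMap A P.Ring))) :=
    PrimeSpectrum.isOpenMap_comap_of_hasGoingDown_of_finitePresentation.isOpen_range
  obtain ⟨I, hI⟩ := (PrimeSpectrum.isClosed_iff_zeroLocus_ideal _).mp ho.isClosed_compl
  have hmI : ¬ I ≤ m := by
    intro hle
    have hc : mp ∈ (Set.range (PrimeSpectrum.comap (algebraMap A P.Ring)))ᶜ := by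
      rw [hI]; exact hle
    exact hc ⟨q, hq⟩
  have htop : I ⊔ m = ⊤ := Ideal.IsMaximal.out (I := m) |>.2 _
    (lt_of_le_of_ne le_sup_right fun e => hmI (le_sup_left.trans e.ge))
  obtain ⟨i, hi, c, hc, hic⟩ := Submodule.mem_sup.mp ((Ideal.eq_top_iff_one _).mp htop)
  haveI : Algebra.Etale A (Localization.Away c) := Algebra.Etale.of_isLocalizationAway c
  haveI := IndEtLib.etale_prod A P.Ring (Localization.Away c)
  have hff : Module.FaithfullyFlat A (P.Ring × Localization.Away c) := by
    refine Module.FaithfullyFlat.of_comap_surjective fun p => ?_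
    by_cases hp : p ∈ Set.range (PrimeSpectrum.comap (algebraMap A P.Ring))
    · obtain ⟨y, rfl⟩ := hp
      exact ⟨PrimeSpectrum.comap (RingHom.fst _ _) y, rfl⟩
    · have hcp : c ∉ p.asIdeal := fun hcp => p.2.ne_top ((Ideal.eq_top_iff_one _).mpr (by
        rw [← hic]
        exact p.asIdeal.add_mem ((hI.le hp : I ≤ p.asIdeal) hi) hcp))
      obtain ⟨y, rfl⟩ := (PrimeSpectrum.localization_away_comap_range (Localization.Away c) c).ge hcp
      exact ⟨PrimeSpectrum.comap (RingHom.snd _ _) y, rfl⟩
  obtain ⟨τ⟩ := h (P.Ring × Localization.Away c) hff inferInstance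
  let ψ : P.Ring × Localization.Away c →ₐ[A] Localization.AtPrime m :=
    (Algebra.ofId A (Localization.AtPrime m)).comp τ
  have hid : IsIdempotentElem (ψ (1, 0)) := by
    unfold IsIdempotentElem
    rw [← map_mul]
    simp
  rcases IsLocalRing.isUnit_or_isUnit_one_sub_self (ψ (1, 0)) with he | he
  · have e1 : ψ (1, 0) = 1 := he.mul_left_cancel (by rw [mul_one]; exact hid)
    let χ : P.Ring →ₐ[A] Localization.AtPrime m :=
      { toFun := fun b => ψ (b, 0)
        map_one' := e1
        map_mul' := fun a b => by rw [← map_mul, Prod.mk_mul_mk, mul_zero]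
        map_zero' := map_zero ψ
        map_add' := fun a b => by rw [← map_add, Prod.mk_add_mk, add_zero]
        commutes' := fun a => by
          show ψ (algebraMap A P.Ring a, 0) = _
          rw [show ((algebraMap A P.Ring a, 0) : P.Ring × Localization.Away c) =
            algebraMap A (P.Ring × Localization.Away c) a * (1, 0) from by
              ext <;> simp [Prod.algebraMap_apply], map_mul, e1, mul_one, AlgHom.commutes] }
    exact ⟨χ P.X, P.hasMap_X.map χ⟩
  · have e0 : ψ (1, 0) = 0 := by
      refine he.mul_left_cancel ?_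
      rw [mul_zero, sub_mul, one_mul, hid, sub_self]
    exfalso
    have e2 : ψ (0, 1) = 1 := by
      have : ψ ((1, 0) + (0, 1)) = 1 := by
        rw [show ((1 : P.Ring), (0 : Localization.Away c)) + (0, 1) = 1 from by ext <;> simp, map_one]
      rwa [map_add, e0, zero_add] at this
    have hu : IsUnit (algebraMap A (Localization.AtPrime m) c) := by
      refine IsUnit.of_mul_eq_one (ψ (0, IsLocalization.Away.invSelf c)) ?_
      rw [← AlgHom.commutes ψ, ← map_mul, ← e2]
      congr 1
      ext <;> simp [Prod.algebraMap_apply, IsLocalization.Away.mul_invSelf]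
    exact (IsLocalization.AtPrime.isUnit_to_map_iff _ m c).mp hu hc

include h in
theorem isSepClosed_residueField : IsSepClosed (ResidueField (Localization.AtPrime m)) := by
  refine IsSepClosed.of_exists_root _ fun q hq hi hs => ?_
  have hsurj : Function.Surjective (algebraMap A m.ResidueField) := Ideal.algebraMap_residueField_surjective m
  have hq' : q ∈ Polynomial.lifts (algebraMap A m.ResidueField) := by
    rw [Polynomial.lifts_iff_coeff_lifts]
    exact fun n => hsurj _
  obtain ⟨F, hF, -, hFm⟩ := Polynomial.lifts_and_natDegree_eq_and_monic hq' hq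
  haveI := Fact.mk hi
  let P : StandardEtalePair A := ⟨F, hFm, F.derivative, 1, 0, 1, by ring⟩
  have hx : P.HasMap (AdjoinRoot.root q) := by
    constructor
    · rw [← aeval_map_algebraMap m.ResidueField, hF, AdjoinRoot.aeval_eq, AdjoinRoot.mk_self]
    · refine Ne.isUnit ?_
      rw [← aeval_map_algebraMap m.ResidueField, ← derivative_map, hF]
      exact hs.aeval_derivative_ne_zero (by rw [AdjoinRoot.aeval_eq, AdjoinRoot.mk_self])
  have hK : RingHom.ker (algebraMap A (AdjoinRoot q)) = m := by
    rw [IsScalarTower.algebraMap_eq A m.ResidueField, RingHom.ker_comp_of_injective _ (RingHom.injective _),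
      Ideal.ker_algebraMap_residueField]
  obtain ⟨r, hr⟩ := exists_hasMap h m P hK _ hx
  refine ⟨residue _ r, ?_⟩
  have e := congrArg (residue (Localization.AtPrime m)) hr.1
  rw [map_zero] at e
  rw [← hF, eval_map, ← e]
  rw [aeval_def, hom_eval₂]
  rfl

include h in
theorem henselianLocalRing : HenselianLocalRing (Localization.AtPrime m) := by
  let L := Localization.AtPrime m
  refine ⟨fun f hf a₀ h₁ h₂ => ?_⟩
  obtain ⟨s, hs⟩ := IsLocalization.exist_integer_multiples m.primeCompl (f.support : Finset ℕ) f.coeff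
  obtain ⟨u, hu⟩ := IsLocalization.map_units L s
  have hu' : algebraMap A L s = u := hu.symm
  let F₀ : L[X] := C ((u : L) ^ f.natDegree) * f.comp (C (↑u⁻¹ : L) * X)
  have hcoe : ∀ i, F₀.coeff i = (u : L) ^ f.natDegree * (f.coeff i * (↑u⁻¹ : L) ^ i) := fun i => by
    rw [coeff_C_mul, comp_C_mul_X_coeff]
  have hF₀m : F₀.Monic := monic_of_natDegree_le_of_coeff_eq_one f.natDegree
    (natDegree_le_iff_coeff_eq_zero.mpr fun i hi => by
      rw [hcoe, coeff_eq_zero_of_natDegree_lt hi, zero_mul, mul_zero])
    (by rw [hcoe, coeff_natDegree, hf.leadingCoeff, one_mul, ← mul_pow, Units.mul_inv, one_pow])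
  have hlift : F₀ ∈ Polynomial.lifts (algebraMap A L) := by
    rw [Polynomial.lifts_iff_coeff_lifts]
    intro i
    rw [hcoe]
    rcases lt_trichotomy i f.natDegree with hi | hi | hi
    · by_cases h0 : f.coeff i = 0
      · exact ⟨0, by simp [h0]⟩
      obtain ⟨a, ha⟩ := hs i (mem_support_iff.mpr h0)
      refine ⟨(s : A) ^ (f.natDegree - i - 1) * a, ?_⟩
      rw [map_mul, map_pow, ha, Algebra.smul_def, hu']
      have e : (u : L) ^ f.natDegree = (u : L) ^ (f.natDegree - i - 1) * (u : L) * (u : L) ^ i := by
        rw [← pow_succ, ← pow_add]; congr 1; omega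
      rw [e]
      have e' : (u : L) ^ i * (↑u⁻¹ : L) ^ i = 1 := by rw [← mul_pow, Units.mul_inv, one_pow]
      linear_combination (-((u : L) ^ (f.natDegree - i - 1) * u * f.coeff i)) * e'
    · refine ⟨1, ?_⟩
      rw [hi, coeff_natDegree, hf.leadingCoeff, one_mul, ← mul_pow, Units.mul_inv, one_pow, map_one]
    · exact ⟨0, by rw [map_zero, coeff_eq_zero_of_natDegree_lt hi, zero_mul, mul_zero]⟩
  obtain ⟨F, hF, -, hFm⟩ := Polynomial.lifts_and_natDegree_eq_and_monic hlift hF₀m
  have heval : ∀ x : L, F₀.eval ((u : L) * x) = (u : L) ^ f.natDegree * f.eval x := fun x => by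
    simp [F₀, ← mul_assoc]
  have hder : ∀ x : L, F₀.derivative.eval ((u : L) * x) =
      (u : L) ^ f.natDegree * ((↑u⁻¹ : L) * f.derivative.eval x) := fun x => by
    simp only [F₀, derivative_C_mul]
    rw [eval_C_mul, Polynomial.derivative_comp]
    simp [← mul_assoc]
  -- the approximate root in `A`
  obtain ⟨b, hb⟩ := Ideal.algebraMap_residueField_surjective m (residue L ((u : L) * a₀))
  have hres : ∀ a : A, algebraMap A m.ResidueField a = residue L (algebraMap A L a) := fun a => rfl
  have hev : ∀ p : A[X], algebraMap A m.ResidueField (p.eval b) = residue L ((p.map (algebraMap A L)).eval ((u : L) * a₀)) := fun p => by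
    rw [eval_map, hom_eval₂, ← eval₂_at_apply, hb]
    rfl
  have hFb : algebraMap A m.ResidueField (F.eval b) = 0 := by
    rw [hev, hF, heval]
    exact (residue_eq_zero_iff _).mpr (Ideal.mul_mem_left _ _ h₁)
  have hFb' : algebraMap A m.ResidueField (F.derivative.eval b) ≠ 0 := by
    rw [hev, ← derivative_map, hF, hder]
    exact (((u.isUnit.pow _).mul ((u⁻¹).isUnit.mul h₂)).map (residue L)).ne_zero
  obtain ⟨Q, hQ⟩ := dvd_iff_isRoot.2 (show (F - C (F.eval b)).IsRoot b by simp [IsRoot])
  have hQb : Q.eval b = F.derivative.eval b := by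
    have := congrArg (fun P : A[X] => P.derivative.eval b) hQ
    simp at this
    exact this.symm
  let P : StandardEtalePair A := ⟨F, hFm, F.derivative * Q, Q, 0, 1, by ring⟩
  have hx : P.HasMap (algebraMap A m.ResidueField b) := by
    constructor
    · rw [aeval_algebraMap_apply, coe_aeval_eq_eval]
      exact hFb
    · refine Ne.isUnit ?_
      rw [aeval_algebraMap_apply, coe_aeval_eq_eval, eval_mul, hQb, map_mul]
      exact mul_ne_zero hFb' hFb'
  obtain ⟨r, hr⟩ := exists_hasMap h m P (Ideal.ker_algebraMap_residueField m) _ hx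
  refine ⟨(↑u⁻¹ : L) * r, ?_, ?_⟩
  · have h5 : F₀.eval r = 0 := by rw [← hF, eval_map_algebraMap]; exact hr.1
    rw [show r = (u : L) * ((↑u⁻¹ : L) * r) by rw [← mul_assoc, Units.mul_inv, one_mul], heval] at h5
    exact (u.isUnit.pow _).mul_right_eq_zero.mp h5
  · rw [← residue_eq_zero_iff, map_sub, sub_eq_zero]
    have h6 : residue L r = residue L ((u : L) * a₀) := by
      rw [← hb, hres, ← sub_eq_zero, ← map_sub]
      have hQu : IsUnit (aeval r Q) := by
        have := hr.2
        rw [map_mul] at this
        exact isUnit_of_mul_isUnit_right this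
      have h7 := congrArg (fun g : A[X] => aeval r g) hQ
      simp only [map_sub, aeval_C, map_mul, aeval_X, show aeval r F = 0 from hr.1, zero_sub] at h7
      rw [residue_eq_zero_iff]
      refine (Ideal.mul_unit_mem_iff_mem _ hQu).1 ?_
      rw [← h7, ← residue_eq_zero_iff, map_neg, ← hres, hFb, neg_zero]
    rw [map_mul, h6, ← map_mul, ← mul_assoc, Units.inv_mul, one_mul]

end Groth.Agent.EtRetr
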