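import Groth.Agent.IndEtLib.Retract
import Mathlib

/-!
Standard etale pairs over a localization lift to the base; etale retractions pass to semilocalizations along
a closed set.
-/

set_option autoImplicit false
set_option linter.style.haveILetI false

universe u

open Polynomial TensorProduct

namespace Groth.Agent.EtRetr

open Groth.Agent.IndEtLib

variable {A B : Type u} [CommRing A] [CommRing B] [Algebra A B]

/-- the `A`-algebra structure on a standard etale `B`-algebra -/
noncomputable abbrev algRingLoc (P : StandardEtalePair B) : Algebra A P.Ring :=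
  ((algebraMap B P.Ring).comp (algebraMap A B)).toAlgebra

attribute [local instance 50] algRingLoc

local instance (P : StandardEtalePair B) : IsScalarTower A B P.Ring :=
  IsScalarTower.of_algebraMap_eq fun _ => rfl

/-- clearing denominators -/
theorem exists_scale (S : Submonoid A) [IsLocalization S B] (s : S) (p : B[X])
    (hs : ∀ i, p.coeff i ≠ 0 → IsLocalization.IsInteger A ((s : A) • p.coeff i)) (N : ℕ) (hN : p.natDegree < N) :
    ∃ q : A[X], (q.map (algebraMap A B)).comp (C (algebraMap A B s) * X) = C (algebraMap A B s ^ N) * p := by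
  have hs' : ∀ i, ∃ c : A, algebraMap A B c = algebraMap A B s * p.coeff i := fun i => by
    by_cases h0 : p.coeff i = 0
    · exact ⟨0, by rw [h0, map_zero, mul_zero]⟩
    · obtain ⟨c, hc⟩ := hs i h0
      exact ⟨c, by rw [hc, Algebra.smul_def]⟩
  choose c hc using hs'
  refine ⟨∑ i ∈ Finset.range N, C (c i * (s : A) ^ (N - i - 1)) * X ^ i, ?_⟩
  conv_rhs => rw [p.as_sum_range' N hN]
  rw [Polynomial.map_sum, sum_comp, Finset.mul_sum]
  refine Finset.sum_congr rfl fun i hi => ?_
  rw [Finset.mem_range] at hi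
  rw [Polynomial.map_mul, Polynomial.map_pow, map_C, map_X, mul_comp, C_comp, pow_comp, X_comp, map_mul, map_pow, hc,
    ← C_mul_X_pow_eq_monomial, mul_pow, ← C_pow, ← mul_assoc, ← mul_assoc, ← C_mul, ← C_mul]
  congr 2
  rw [show algebraMap A B s ^ N = algebraMap A B s ^ (N - i - 1) * algebraMap A B s * algebraMap A B s ^ i from by
    rw [← pow_succ, ← pow_add]; congr 1; omega]
  ring

theorem exists_lift_pair_loc (S : Submonoid A) [IsLocalization S B] (P : StandardEtalePair B) :
    ∃ (Q : StandardEtalePair A) (x : P.Ring) (_ : Q.HasMap x) (y : B ⊗[A] Q.Ring), P.HasMap y := by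
  classical
  obtain ⟨s, hs⟩ := IsLocalization.exist_integer_multiples_of_finset S
    (P.f.support.image P.f.coeff ∪ P.g.support.image P.g.coeff)
  obtain ⟨u, hu⟩ := IsLocalization.map_units B s
  let n := P.f.natDegree
  let F₀ : B[X] := C ((u : B) ^ n) * P.f.comp (C (↑u⁻¹ : B) * X)
  have hcoe : ∀ i, F₀.coeff i = (u : B) ^ n * (P.f.coeff i * (↑u⁻¹ : B) ^ i) := fun i => by
    rw [coeff_C_mul, comp_C_mul_X_coeff]
  have hF₀m : F₀.Monic := monic_of_natDegree_le_of_coeff_eq_one n
    (natDegree_le_iff_coeff_eq_zero.mpr fun i hi => by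
      rw [hcoe, coeff_eq_zero_of_natDegree_lt hi, zero_mul, mul_zero])
    (by rw [hcoe, coeff_natDegree, P.monic_f.leadingCoeff, one_mul, ← mul_pow, Units.mul_inv, one_pow])
  have hlift : F₀ ∈ Polynomial.lifts (algebraMap A B) := by
    rw [Polynomial.lifts_iff_coeff_lifts]
    intro i
    rw [hcoe]
    rcases lt_trichotomy i n with hi | hi | hi
    · by_cases h0 : P.f.coeff i = 0
      · exact ⟨0, by simp [h0]⟩
      obtain ⟨a, ha⟩ := hs (P.f.coeff i) (Finset.mem_union_left _ (Finset.mem_image_of_mem _ (mem_support_iff.mpr h0)))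
      refine ⟨(s : A) ^ (n - i - 1) * a, ?_⟩
      rw [map_mul, map_pow, ha, Algebra.smul_def, ← hu]
      have e : (u : B) ^ n = (u : B) ^ (n - i - 1) * (u : B) * (u : B) ^ i := by
        rw [← pow_succ, ← pow_add]; congr 1; omega
      rw [e]
      have e' : (u : B) ^ i * (↑u⁻¹ : B) ^ i = 1 := by rw [← mul_pow, Units.mul_inv, one_pow]
      linear_combination (-((u : B) ^ (n - i - 1) * u * P.f.coeff i)) * e'
    · refine ⟨1, ?_⟩
      rw [hi, coeff_natDegree, P.monic_f.leadingCoeff, one_mul, ← mul_pow, Units.mul_inv, one_pow, map_one]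
    · exact ⟨0, by rw [map_zero, coeff_eq_zero_of_natDegree_lt hi, zero_mul, mul_zero]⟩
  rcases subsingleton_or_nontrivial B with hsub | hnt
  · haveI : Subsingleton P.Ring := Module.subsingleton B _
    let Q₁ : StandardEtalePair A := ⟨1, monic_one, 1, 1, 1, 1, by simp⟩
    haveI : Subsingleton (B ⊗[A] Q₁.Ring) := Module.subsingleton B _
    exact ⟨Q₁, P.X, ⟨Subsingleton.elim _ _, isUnit_of_subsingleton _⟩, 0,
      ⟨Subsingleton.elim _ _, isUnit_of_subsingleton _⟩⟩
  obtain ⟨F, hF, -, hFm⟩ := Polynomial.lifts_and_degree_eq_and_monic hlift hF₀m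
  obtain ⟨G, hG⟩ := exists_scale S s P.g (fun i hi => hs _ (Finset.mem_union_right _
    (Finset.mem_image_of_mem _ (mem_support_iff.mpr hi)))) (P.g.natDegree + 1) (Nat.lt_succ_self _)
  have hFe : ∀ {R : Type u} [CommRing R] [Algebra B R] (z : R),
      aeval (algebraMap B R (u : B) * z) F₀ = algebraMap B R (u : B) ^ n * aeval z P.f := fun {R} _ _ z => by
    simp only [F₀, map_mul, aeval_C, map_pow, aeval_comp, aeval_X]
    rw [← mul_assoc (algebraMap B R _), ← map_mul (algebraMap B R) (↑u⁻¹ : B), Units.inv_mul, map_one, one_mul]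
  have hGe : ∀ {R : Type u} [CommRing R] [Algebra B R] (z : R), aeval (algebraMap B R (u : B) * z) (G.map (algebraMap A B)) =
      algebraMap B R (u : B) ^ (P.g.natDegree + 1) * aeval z P.g := fun {R} _ _ z => by
    have e := hG
    rw [← hu] at e
    have := congrArg (aeval z) e
    rwa [aeval_comp, map_mul, aeval_C, aeval_X, map_mul, aeval_C, map_pow] at this
  let Q : StandardEtalePair A := ⟨F, hFm, G * derivative F, G, 0, 1, by ring⟩
  have hmapd : ∀ {R : Type u} [CommRing R] [Algebra B R] (z : R),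
      aeval (algebraMap B R (u : B) * z) (derivative F₀) =
        algebraMap B R (u : B) ^ n * (algebraMap B R (↑u⁻¹ : B) * aeval z (derivative P.f)) := fun {R} _ _ z => by
    simp only [F₀, derivative_C_mul]
    rw [Polynomial.derivative_comp, derivative_C_mul, derivative_X, mul_one]
    simp only [map_mul, aeval_C, map_pow, aeval_comp, aeval_X]
    rw [← mul_assoc (algebraMap B R (↑u⁻¹ : B)) (algebraMap B R (u : B)), ← map_mul (algebraMap B R), Units.inv_mul,
      map_one, one_mul]
  let x : P.Ring := algebraMap B P.Ring (u : B) * P.X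
  have huP : IsUnit (algebraMap B P.Ring (u : B)) := u.isUnit.map _
  refine ⟨Q, x, ⟨?_, ?_⟩, algebraMap B _ (↑u⁻¹ : B) * ((1 : B) ⊗ₜ[A] Q.X), ?_⟩
  · rw [← aeval_map_algebraMap B, hF, hFe, P.hasMap_X.1, mul_zero]
  · rw [map_mul, ← aeval_map_algebraMap B _ G, ← aeval_map_algebraMap B _ (derivative F), hGe, ← derivative_map,
      hF, hmapd]
    exact ((huP.pow _).mul P.hasMap_X.2).mul ((huP.pow _).mul (((u⁻¹).isUnit.map _).mul P.hasMap_X.isUnit_derivative_f))
  · have hX := Q.hasMap_X.map (Algebra.TensorProduct.includeRight : Q.Ring →ₐ[A] B ⊗[A] Q.Ring)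
    have e1 : algebraMap B (B ⊗[A] Q.Ring) (u : B) * (algebraMap B _ (↑u⁻¹ : B) * ((1 : B) ⊗ₜ[A] Q.X)) =
        (1 : B) ⊗ₜ[A] Q.X := by rw [← mul_assoc, ← map_mul, Units.mul_inv, map_one, one_mul]
    have huQ : IsUnit (algebraMap B (B ⊗[A] Q.Ring) (u : B)) := u.isUnit.map _
    have h1 := hX.1
    have h2 := hX.2
    rw [Algebra.TensorProduct.includeRight_apply, ← aeval_map_algebraMap B] at h1 h2
    rw [hF, ← e1, hFe] at h1
    rw [Polynomial.map_mul, map_mul, ← e1, hGe] at h2
    exact ⟨(huQ.pow _).mul_right_eq_zero.mp h1, isUnit_of_mul_isUnit_right (isUnit_of_mul_isUnit_left h2)⟩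

theorem hasEtaleRetractions_localization (S : Submonoid A) [IsLocalization S B] (I : Ideal A)
    (hB : Set.range (PrimeSpectrum.comap (algebraMap A B)) =
      {x | ∃ z : PrimeSpectrum A, z ∈ PrimeSpectrum.zeroLocus (R := A) I ∧ x ⤳ z})
    (h : ProEtW.HasEtaleRetractions A) : ProEtW.HasEtaleRetractions B := by
  intro T _ _ hff het
  classical
  choose s hs hstd using fun Q : PrimeSpectrum T => Algebra.IsEtaleAt.exists_isStandardEtale (R := B) Q.asIdeal
  let P := fun Q => (hstd Q).nonempty_standardEtalePresentation.some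
  choose L x hL y hL' using fun Q => exists_lift_pair_loc S (P Q).P
  obtain ⟨t, ht⟩ := isCompact_univ.elim_finite_subcover (fun Q => (PrimeSpectrum.basicOpen (s Q) : Set (PrimeSpectrum T)))
    (fun Q => (PrimeSpectrum.basicOpen (s Q)).isOpen) (fun Q _ => Set.mem_iUnion.mpr ⟨Q, hs Q⟩)
  let C₁ := ∀ i : t, (L i).Ring
  let U : Set (PrimeSpectrum A) := ⋃ i : t, Set.range (PrimeSpectrum.comap (algebraMap A (L i).Ring))
  have hU : IsOpen U := isOpen_iUnion fun i =>
    PrimeSpectrum.isOpenMap_comap_of_hasGoingDown_of_finitePresentation.isOpen_range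
  -- the lifted pieces cover the zero locus of `I`
  have hIU : PrimeSpectrum.zeroLocus (I : Set A) ⊆ U := by
    intro p hp
    obtain ⟨q, rfl⟩ := hB.ge ⟨p, hp, specializes_rfl⟩
    obtain ⟨Q, rfl⟩ := PrimeSpectrum.comap_surjective_of_faithfullyFlat (B := T) q
    obtain ⟨Q₀, hQ₀, hQQ⟩ := Set.mem_iUnion₂.mp (ht (Set.mem_univ Q))
    obtain ⟨Q', hQ'⟩ : Q ∈ Set.range (PrimeSpectrum.comap (algebraMap T (Localization.Away (s Q₀)))) := by
      rw [PrimeSpectrum.localization_away_comap_range (Localization.Away (s Q₀)) (s Q₀)]; exact hQQ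
    let ψ : (L Q₀).Ring →+* Localization.Away (s Q₀) :=
      (P Q₀).equivRing.symm.toAlgHom.toRingHom.comp ((L Q₀).lift _ (hL Q₀)).toRingHom
    refine Set.mem_iUnion.mpr ⟨⟨Q₀, hQ₀⟩, PrimeSpectrum.comap ψ Q', ?_⟩
    rw [← hQ', ← PrimeSpectrum.comap_comp_apply, ← PrimeSpectrum.comap_comp_apply, ← PrimeSpectrum.comap_comp_apply]
    congr 1
    ext a
    show (P Q₀).equivRing.symm ((L Q₀).lift _ (hL Q₀) (algebraMap A (L Q₀).Ring a)) = _
    rw [AlgHom.commutes, IsScalarTower.algebraMap_apply A B (P Q₀).P.Ring, AlgEquiv.commutes]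
    exact IsScalarTower.algebraMap_apply B T (Localization.Away (s Q₀)) _
  obtain ⟨K, hK⟩ := (PrimeSpectrum.isClosed_iff_zeroLocus_ideal _).mp hU.isClosed_compl
  obtain ⟨a, haI, k, hk, hak⟩ : ∃ a ∈ I, ∃ k ∈ K, a + k = 1 := by
    rw [← Submodule.mem_sup, ← Ideal.eq_top_iff_one, ← PrimeSpectrum.zeroLocus_empty_iff_eq_top,
      PrimeSpectrum.zeroLocus_sup, ← hK, Set.eq_empty_iff_forall_notMem]
    exact fun p hp => hp.2 (hIU hp.1)
  let C := C₁ × Localization.Away a
  have : Algebra.Etale A C := etale_prod A C₁ (Localization.Away a)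
  have : Module.Flat A C := inferInstance
  have hC : Module.FaithfullyFlat A C := Module.FaithfullyFlat.of_comap_surjective fun p => by
    by_cases hp : p ∈ U
    · obtain ⟨i, q, rfl⟩ := Set.mem_iUnion.mp hp
      exact ⟨PrimeSpectrum.comap ((Pi.evalRingHom (fun i : t => (L i).Ring) i).comp (RingHom.fst C₁ _)) q, rfl⟩
    · have hpa : a ∉ p.asIdeal := fun h' => p.2.ne_top <| (Ideal.eq_top_iff_one _).mpr
        (hak ▸ add_mem h' ((hK.le hp) hk))
      obtain ⟨q, rfl⟩ : p ∈ Set.range (PrimeSpectrum.comap (algebraMap A (Localization.Away a))) := by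
        rw [PrimeSpectrum.localization_away_comap_range (Localization.Away a) a]; exact hpa
      exact ⟨PrimeSpectrum.comap (RingHom.snd C₁ _) q, rfl⟩
  obtain ⟨ρ⟩ := h C hC ‹_›
  let φ : C →ₐ[A] B := (Algebra.ofId A B).comp ρ
  have hu : ((0, 1) : C) = algebraMap A C a * (0, IsLocalization.Away.invSelf a) :=
    Prod.ext (mul_zero _).symm (IsLocalization.Away.mul_invSelf (S := Localization.Away a) a).symm
  have hrad : φ (0, 1) ∈ Ideal.jacobson (⊥ : Ideal B) := by
    rw [Ideal.jacobson, Submodule.mem_sInf]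
    rintro q ⟨-, hq⟩
    obtain ⟨z, hz, hxz⟩ := hB.le (Set.mem_range_self (⟨q, hq.isPrime⟩ : PrimeSpectrum B))
    obtain ⟨q', hq'⟩ := hB.ge (show z ∈ {x | ∃ z : PrimeSpectrum A, z ∈ PrimeSpectrum.zeroLocus (R := A) I ∧ x ⤳ z}
      from ⟨z, hz, specializes_rfl⟩)
    have hle : q ≤ q'.asIdeal := by
      rw [← IsLocalization.map_under S B q, ← IsLocalization.map_under S B q'.asIdeal]
      refine Ideal.map_mono ?_
      have := (PrimeSpectrum.le_iff_specializes _ z).mpr hxz
      rw [← hq'] at this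
      exact this
    rw [hu, map_mul, φ.commutes, hq.eq_of_le q'.2.ne_top hle]
    refine Ideal.mul_mem_right _ _ ?_
    have : a ∈ (PrimeSpectrum.comap (algebraMap A B) q').asIdeal := hq' ▸ hz haI
    exact this
  have h01 : φ (0, 1) = 0 := by
    have hid : IsIdempotentElem (φ (0, 1)) := by
      show φ (0, 1) * φ (0, 1) = φ (0, 1)
      rw [← map_mul, Prod.mk_mul_mk, mul_zero, mul_one]
    obtain ⟨v, hv⟩ := Ideal.mem_jacobson_bot.mp hrad (-1)
    have : φ (0, 1) * (v : B) = 0 := by rw [hv]; linear_combination -hid.eq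
    exact (Units.mul_left_eq_zero v).mp this
  have hz : ∀ y : Localization.Away a, φ (0, y) = 0 := fun y => by
    rw [show ((0, y) : C) = (0, 1) * (0, y) by simp, map_mul, h01, zero_mul]
  have h1 : φ (1, 0) = 1 := by
    have := map_add φ (1, 0) (0, 1)
    rw [h01, add_zero, Prod.mk_add_mk, add_zero, zero_add] at this
    exact this.symm.trans (map_one φ)
  let φ' : C₁ →ₐ[A] B :=
    { toFun := fun y => φ (y, 0)
      map_one' := h1
      map_mul' := fun x y => by rw [← map_mul, Prod.mk_mul_mk, mul_zero]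
      map_zero' := map_zero φ
      map_add' := fun x y => by rw [← map_add, Prod.mk_add_mk, add_zero]
      commutes' := fun r => by
        show φ (algebraMap A C₁ r, 0) = _
        have := map_add φ (algebraMap A C₁ r, 0) (0, algebraMap A _ r)
        rw [hz, add_zero, Prod.mk_add_mk, add_zero, zero_add] at this
        exact this.symm.trans (φ.commutes r) }
  let g : ∀ i : t, T →ₐ[B] B ⊗[A] (L i).Ring := fun i =>
    ((P i).P.lift _ (hL' i)).comp ((P i).equivRing.toAlgHom.comp (IsScalarTower.toAlgHom B T _))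
  let ev : B ⊗[A] C₁ →ₐ[B] B := Algebra.TensorProduct.lift (AlgHom.id _ _) φ' fun _ _ => .all _ _
  exact ⟨(ev.comp (Algebra.TensorProduct.piRight A B B fun i : t => (L i).Ring).symm.toAlgHom).comp
    (AlgHom.pi g)⟩

end Groth.Agent.EtRetr
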